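import Groth.Agent.H70.QGorNhd.Setup

/-!
# The four-term criterion at the local rings `A_p → B_q` (helper70)
-/

set_option autoImplicit false
set_option linter.style.haveILetI false
set_option linter.unusedSectionVars false
universe u

open Function (Injective Surjective Exact)

namespace Groth.Agent.H70.QGorNhd

open Groth.Agent.H29.LocTensor IsLocalRing

attribute [local instance] locAlgebra locModule

section

variable {A B : Type u} [CommRing A] [CommRing B] [Algebra A B]
  (q : Ideal B) [q.IsPrime]

/-- localization of a linear map at `q`, linear over `B_q` -/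
noncomputable abbrev lm {X Y : Type u} [AddCommGroup X] [Module B X] [AddCommGroup Y] [Module B Y]
    (h : X →ₗ[B] Y) :
    LocalizedModule q.primeCompl X →ₗ[Localization.AtPrime q] LocalizedModule q.primeCompl Y :=
  IsLocalizedModule.mapExtendScalars q.primeCompl (LocalizedModule.mkLinearMap q.primeCompl X)
    (LocalizedModule.mkLinearMap q.primeCompl Y) (Localization.AtPrime q) h

theorem lm_apply {X Y : Type u} [AddCommGroup X] [Module B X] [AddCommGroup Y] [Module B Y]
    (h : X →ₗ[B] Y) (x : LocalizedModule q.primeCompl X) :
    lm q h x = IsLocalizedModule.map q.primeCompl (LocalizedModule.mkLinearMap q.primeCompl X)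
      (LocalizedModule.mkLinearMap q.primeCompl Y) h x := rfl

theorem lm_injective {X Y : Type u} [AddCommGroup X] [Module B X] [AddCommGroup Y] [Module B Y]
    (h : X →ₗ[B] Y) (hh : Injective h) : Injective (lm q h) :=
  IsLocalizedModule.map_injective q.primeCompl _ _ h hh

theorem lm_surjective {X Y : Type u} [AddCommGroup X] [Module B X] [AddCommGroup Y] [Module B Y]
    (h : X →ₗ[B] Y) (hh : Surjective h) : Surjective (lm q h) :=
  IsLocalizedModule.map_surjective q.primeCompl _ _ h hh

theorem lm_exact {X Y Z : Type u} [AddCommGroup X] [Module B X] [AddCommGroup Y] [Module B Y]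
    [AddCommGroup Z] [Module B Z]
    (g : X →ₗ[B] Y) (h : Y →ₗ[B] Z) (hgh : Exact g h) : Exact (lm q g) (lm q h) :=
  IsLocalizedModule.map_exact q.primeCompl _ _ _ g h hgh

/-- the two descriptions of the ideal `p B_q` -/
theorem map_maximalIdeal_eq :
    (maximalIdeal (Localization.AtPrime (q.comap (algebraMap A B)))).map
        (algebraMap (Localization.AtPrime (q.comap (algebraMap A B))) (Localization.AtPrime q)) =
      (q.comap (algebraMap A B)).map (algebraMap A (Localization.AtPrime q)) := by
  rw [← Localization.AtPrime.map_eq_maximalIdeal, Ideal.map_map,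
    ← IsScalarTower.algebraMap_eq]

end

section fourTermFlat

variable {R : Type u} [CommRing R] {F E0 E1 G : Type u} [AddCommGroup F] [Module R F]
  [AddCommGroup E0] [Module R E0] [AddCommGroup E1] [Module R E1] [AddCommGroup G] [Module R G]

/-- in an exact sequence `0 → F → E0 → E1 → G → 0` with `E0`, `E1`, `G` flat, `F` is flat -/
theorem flat_of_fourTerm (f : F →ₗ[R] E0) (u : E0 →ₗ[R] E1) (v : E1 →ₗ[R] G)
    (hf : Injective f) (hfu : Exact f u) (huv : Exact u v) (hv : Surjective v)
    [Module.Flat R E0] [Module.Flat R E1] [Module.Flat R G] : Module.Flat R F := by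
  let Z : Submodule R E1 := LinearMap.ker v
  let u' : E0 →ₗ[R] Z := u.codRestrict Z (fun x => huv.apply_apply_eq_zero x)
  have hu'surj : Surjective u' := by
    rintro ⟨z, hz⟩
    obtain ⟨e, rfl⟩ := (huv z).mp hz
    exact ⟨e, rfl⟩
  have hfu' : Exact f u' := by
    intro e
    rw [← hfu e]
    constructor
    · intro h; exact congrArg Subtype.val h
    · intro h; exact Subtype.ext h
  have hιinj : Injective Z.subtype := Submodule.injective_subtype Z
  have hιv : Exact Z.subtype v := LinearMap.exact_subtype_ker_map v
  haveI Zflat : Module.Flat R Z :=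
    Groth.Agent.H70.FlatAss.flat_of_exact_of_flat Z.subtype v hιinj hιv hv
  exact Groth.Agent.H70.FlatAss.flat_of_exact_of_flat f u' hf hfu' hu'surj

end fourTermFlat

section main

variable {A B : Type u} [CommRing A] [CommRing B] [Algebra A B]
  [IsNoetherianRing A] [IsNoetherianRing B]
  (q : Ideal B) [q.IsPrime]
  (F E0 E1 G : Type u) [AddCommGroup F] [Module B F] [Module A F] [IsScalarTower A B F]
  [Module.Finite B F]
  [AddCommGroup E0] [Module B E0] [Module A E0] [IsScalarTower A B E0] [Module.Finite B E0]
  [Module.Flat A E0]
  [AddCommGroup E1] [Module B E1] [Module A E1] [IsScalarTower A B E1] [Module.Finite B E1]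
  [Module.Flat A E1]
  [AddCommGroup G] [Module B G] [Module A G] [IsScalarTower A B G] [Module.Finite B G]
  (f : F →ₗ[B] E0) (u : E0 →ₗ[B] E1) (v : E1 →ₗ[B] G)

/-- flatness over `A` and over `A_p` of a localization at `q` agree -/
theorem flat_loc_iff (X : Type u) [AddCommGroup X] [Module B X] [Module A X]
    [IsScalarTower A B X] :
    Module.Flat (Localization.AtPrime (q.comap (algebraMap A B)))
        (LocalizedModule q.primeCompl X) ↔
      Module.Flat A (LocalizedModule q.primeCompl X) :=
  Module.flat_iff_of_isLocalization (Localization.AtPrime (q.comap (algebraMap A B)))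
    (q.comap (algebraMap A B)).primeCompl (LocalizedModule q.primeCompl X)

theorem local_main
    (hf : Injective f) (hfu : Exact f u) (huv : Exact u v) (hv : Surjective v)
    (hGU : ∀ Q : PrimeSpectrum (Localization.AtPrime q),
      ¬ maximalIdeal (Localization.AtPrime q) ≤ Q.asIdeal →
      Module.Flat (Localization.AtPrime (q.comap (algebraMap A B)))
        (LocalizedModule Q.asIdeal.primeCompl (LocalizedModule q.primeCompl G)))
    (h0 : 2 ≤ LocCoh.depth (Localization.AtPrime q) (EGA4.FibLocMod A B q E0))
    (h1 : 1 ≤ LocCoh.depth (Localization.AtPrime q) (EGA4.FibLocMod A B q E1)) :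
    (2 ≤ LocCoh.depth (Localization.AtPrime q) (EGA4.FibLocMod A B q F) →
      Module.Flat A (LocalizedModule q.primeCompl G)) ∧
    (Module.Flat A (LocalizedModule q.primeCompl G) →
      2 ≤ LocCoh.depth (Localization.AtPrime q) (EGA4.FibLocMod A B q F)) := by
  haveI : IsNoetherianRing (Localization.AtPrime (q.comap (algebraMap A B))) :=
    IsLocalization.isNoetherianRing (q.comap (algebraMap A B)).primeCompl _ inferInstance
  haveI : IsNoetherianRing (Localization.AtPrime q) :=
    IsLocalization.isNoetherianRing q.primeCompl _ inferInstance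
  haveI : Module.Finite (Localization.AtPrime q) (LocalizedModule q.primeCompl F) :=
    Module.Finite.of_isLocalizedModule q.primeCompl (LocalizedModule.mkLinearMap q.primeCompl F)
  haveI : Module.Finite (Localization.AtPrime q) (LocalizedModule q.primeCompl E0) :=
    Module.Finite.of_isLocalizedModule q.primeCompl (LocalizedModule.mkLinearMap q.primeCompl E0)
  haveI : Module.Finite (Localization.AtPrime q) (LocalizedModule q.primeCompl E1) :=
    Module.Finite.of_isLocalizedModule q.primeCompl (LocalizedModule.mkLinearMap q.primeCompl E1)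
  haveI : Module.Finite (Localization.AtPrime q) (LocalizedModule q.primeCompl G) :=
    Module.Finite.of_isLocalizedModule q.primeCompl (LocalizedModule.mkLinearMap q.primeCompl G)
  haveI : Module.Flat (Localization.AtPrime (q.comap (algebraMap A B)))
      (LocalizedModule q.primeCompl E0) :=
    (flat_loc_iff q E0).2 (Groth.Agent.H1.FlatLocus.flat_of_isLocalizedModule_algebra (R := A)
      q.primeCompl (LocalizedModule.mkLinearMap q.primeCompl E0))
  haveI : Module.Flat (Localization.AtPrime (q.comap (algebraMap A B)))
      (LocalizedModule q.primeCompl E1) :=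
    (flat_loc_iff q E1).2 (Groth.Agent.H1.FlatLocus.flat_of_isLocalizedModule_algebra (R := A)
      q.primeCompl (LocalizedModule.mkLinearMap q.primeCompl E1))
  have key := Groth.Agent.H70.FlatAss.fourTerm_main
    (A := Localization.AtPrime (q.comap (algebraMap A B))) (B := Localization.AtPrime q)
    (maximalIdeal (Localization.AtPrime q))
    (LocalizedModule q.primeCompl F) (LocalizedModule q.primeCompl E0)
    (LocalizedModule q.primeCompl E1) (LocalizedModule q.primeCompl G)
    (lm q f) (lm q u) (lm q v) (lm_injective q f hf) (lm_exact q f u hfu) (lm_exact q u v huv)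
    (lm_surjective q v hv) hGU
  rw [map_maximalIdeal_eq (A := A) q] at key
  obtain ⟨k1, k2⟩ := key h0 h1
  exact ⟨fun h => (flat_loc_iff q G).1 (k1 h), fun h => (k2 ((flat_loc_iff q G).2 h)).2⟩

/-- flatness at a prime `Q` of `B_q` from flatness at `Q ∩ B` -/
theorem flat_loc_loc (Q : Ideal (Localization.AtPrime q)) [Q.IsPrime]
    (h : Module.Flat A
      (LocalizedModule (Q.comap (algebraMap B (Localization.AtPrime q))).primeCompl G)) :
    Module.Flat (Localization.AtPrime (q.comap (algebraMap A B)))
      (LocalizedModule Q.primeCompl (LocalizedModule q.primeCompl G)) := by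
  haveI := Groth.Agent.H29.LocTrans.isLocalizedModule_comp q.primeCompl G Q
  let ψ := IsLocalizedModule.linearEquiv
    (Q.comap (algebraMap B (Localization.AtPrime q))).primeCompl
    (LocalizedModule.mkLinearMap (Q.comap (algebraMap B (Localization.AtPrime q))).primeCompl G)
    (((LocalizedModule.mkLinearMap Q.primeCompl (LocalizedModule q.primeCompl G)).restrictScalars
      B).comp (LocalizedModule.mkLinearMap q.primeCompl G))
  have hA : Module.Flat A (LocalizedModule Q.primeCompl (LocalizedModule q.primeCompl G)) :=
    Module.Flat.of_linearEquiv (ψ.restrictScalars A).symm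
  exact (Module.flat_iff_of_isLocalization (Localization.AtPrime (q.comap (algebraMap A B)))
    (q.comap (algebraMap A B)).primeCompl
    (LocalizedModule Q.primeCompl (LocalizedModule q.primeCompl G))).2 hA

end main

end Groth.Agent.H70.QGorNhd
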