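import Groth.Agent.H70.QGorNhd.Local
import Groth.Prelude.Def_FlatCA

/-!
# Flatness of the cokernel in a four-term sequence, neighbourhood form (helper70)
-/

set_option autoImplicit false
set_option linter.style.haveILetI false
set_option linter.unusedSectionVars false
universe u

open Function (Injective Surjective Exact)

namespace Groth.Agent.H70.QGorNhd

open Groth.Agent.H29.LocTensor IsLocalRing

attribute [local instance] locAlgebra locModule

variable {A B : Type u} [CommRing A] [CommRing B] [Algebra A B]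
  [IsNoetherianRing A] [IsNoetherianRing B]

/-- the contraction of a prime of `B_q` is contained in `q` -/
theorem comap_le (q : Ideal B) [q.IsPrime] (Q : Ideal (Localization.AtPrime q)) [Q.IsPrime] :
    Q.comap (algebraMap B (Localization.AtPrime q)) ≤ q := by
  have h1 : Q ≤ maximalIdeal (Localization.AtPrime q) := IsLocalRing.le_maximalIdeal
    (Ideal.IsPrime.ne_top inferInstance)
  have h2 := Ideal.comap_mono (f := algebraMap B (Localization.AtPrime q)) h1
  have h3 : (maximalIdeal (Localization.AtPrime q)).comap (algebraMap B (Localization.AtPrime q)) = q :=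
    Localization.AtPrime.under_maximalIdeal
  exact h2.trans h3.le

/-- if the contraction of `Q` is `q` then `Q` is the maximal ideal -/
theorem maximalIdeal_le_of_comap_eq (q : Ideal B) [q.IsPrime]
    (Q : Ideal (Localization.AtPrime q)) [Q.IsPrime]
    (h : q ≤ Q.comap (algebraMap B (Localization.AtPrime q))) :
    maximalIdeal (Localization.AtPrime q) ≤ Q := by
  rw [← Localization.AtPrime.map_eq_maximalIdeal]
  exact (Ideal.map_mono h).trans Ideal.map_comap_le

section thm

variable (hft : Algebra.FiniteType A B) (J : Ideal B)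
  (F E0 E1 G : Type u) [AddCommGroup F] [Module B F] [Module A F] [IsScalarTower A B F]
  [Module.Finite B F]
  [AddCommGroup E0] [Module B E0] [Module A E0] [IsScalarTower A B E0] [Module.Finite B E0]
  [Module.Flat A E0]
  [AddCommGroup E1] [Module B E1] [Module A E1] [IsScalarTower A B E1] [Module.Finite B E1]
  [Module.Flat A E1]
  [AddCommGroup G] [Module B G] [Module A G] [IsScalarTower A B G] [Module.Finite B G]
  (f : F →ₗ[B] E0) (u : E0 →ₗ[B] E1) (v : E1 →ₗ[B] G)

include hft in
theorem main (hf : Injective f) (hfu : Exact f u) (huv : Exact u v) (hv : Surjective v)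
    (hGU : ∀ q : PrimeSpectrum B, ¬ J ≤ q.asIdeal → FlatCA.FlatAt A q.asIdeal G)
    (h0 : ∀ q : PrimeSpectrum B, J ≤ q.asIdeal →
      2 ≤ LocCoh.idealDepth (q.asIdeal.map (algebraMap B (EGA4.FibLocRing A B q.asIdeal)))
        (EGA4.FibLocMod A B q.asIdeal E0))
    (h1 : ∀ q : PrimeSpectrum B, J ≤ q.asIdeal →
      1 ≤ LocCoh.idealDepth (q.asIdeal.map (algebraMap B (EGA4.FibLocRing A B q.asIdeal)))
        (EGA4.FibLocMod A B q.asIdeal E1))
    (n : PrimeSpectrum B) :
    FlatCA.FlatAt A n.asIdeal G ↔
      ∃ s : B, s ∉ n.asIdeal ∧ ∀ q : PrimeSpectrum B, s ∉ q.asIdeal →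
        FlatCA.FlatAt A q.asIdeal F ∧
        (J ≤ q.asIdeal →
          2 ≤ LocCoh.idealDepth (q.asIdeal.map (algebraMap B (EGA4.FibLocRing A B q.asIdeal)))
            (EGA4.FibLocMod A B q.asIdeal F)) := by
  haveI := hft
  have hopen : IsOpen (Groth.Agent.H1.FlatLocus.flatLocus A (S := B) G) :=
    Groth.Agent.H1.FlatLocus.isOpen_flatLocus_of_isNoetherianRing
  constructor
  · intro hn
    obtain ⟨V, ⟨U, ⟨s, rfl⟩, rfl⟩, hnV, hVU⟩ :=
      PrimeSpectrum.isBasis_basic_opens.exists_subset_of_mem_open
        (show n ∈ Groth.Agent.H1.FlatLocus.flatLocus A (S := B) G from hn) hopen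
    refine ⟨s, hnV, fun q hq => ?_⟩
    have hGq : ∀ q' : PrimeSpectrum B, q'.asIdeal ≤ q.asIdeal →
        Module.Flat A (LocalizedModule q'.asIdeal.primeCompl G) := fun q' hle =>
      hVU (show q' ∈ (PrimeSpectrum.basicOpen s : Set (PrimeSpectrum B)) from
        fun hs => hq (hle hs))
    haveI hGflat : Module.Flat A (LocalizedModule q.asIdeal.primeCompl G) := hGq q le_rfl
    haveI : Module.Flat A (LocalizedModule q.asIdeal.primeCompl E0) :=
      Groth.Agent.H1.FlatLocus.flat_of_isLocalizedModule_algebra (R := A)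
        q.asIdeal.primeCompl (LocalizedModule.mkLinearMap q.asIdeal.primeCompl E0)
    haveI : Module.Flat A (LocalizedModule q.asIdeal.primeCompl E1) :=
      Groth.Agent.H1.FlatLocus.flat_of_isLocalizedModule_algebra (R := A)
        q.asIdeal.primeCompl (LocalizedModule.mkLinearMap q.asIdeal.primeCompl E1)
    refine ⟨?_, fun hJq => ?_⟩
    · exact flat_of_fourTerm ((lm q.asIdeal f).restrictScalars A)
        ((lm q.asIdeal u).restrictScalars A) ((lm q.asIdeal v).restrictScalars A)
        (lm_injective q.asIdeal f hf) (lm_exact q.asIdeal f u hfu) (lm_exact q.asIdeal u v huv)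
        (lm_surjective q.asIdeal v hv)
    · rw [Groth.Agent.H29.FibreDepthGe.idealDepth_fibre_eq (A := A) F q.asIdeal]
      have h0' := h0 q hJq
      have h1' := h1 q hJq
      rw [Groth.Agent.H29.FibreDepthGe.idealDepth_fibre_eq (A := A) E0 q.asIdeal] at h0'
      rw [Groth.Agent.H29.FibreDepthGe.idealDepth_fibre_eq (A := A) E1 q.asIdeal] at h1'
      refine (local_main q.asIdeal F E0 E1 G f u v hf hfu huv hv (fun Q _ => ?_) h0' h1').2
        hGflat
      exact flat_loc_loc q.asIdeal G Q.asIdeal
        (hGq ⟨Q.asIdeal.comap (algebraMap B (Localization.AtPrime q.asIdeal)), inferInstance⟩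
          (comap_le q.asIdeal Q.asIdeal))
  · rintro ⟨s, hsn, hs⟩
    by_contra hn
    set W : Set (PrimeSpectrum B) := (Groth.Agent.H1.FlatLocus.flatLocus A (S := B) G)ᶜ with hW
    have hWclosed : IsClosed W := hopen.isClosed_compl
    have hnW : n ∈ W := hn
    have hIn : PrimeSpectrum.vanishingIdeal W ≤ n.asIdeal := fun x hx =>
      (PrimeSpectrum.mem_vanishingIdeal W x).1 hx n hnW
    obtain ⟨q, hqmin, hqn⟩ := Ideal.exists_minimalPrimes_le hIn
    haveI : q.IsPrime := hqmin.1.1
    have hqW : (⟨q, inferInstance⟩ : PrimeSpectrum B) ∈ W := by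
      rw [← hWclosed.closure_eq, ← PrimeSpectrum.zeroLocus_vanishingIdeal_eq_closure]
      exact hqmin.1.2
    have hJq : J ≤ q := by
      by_contra hJ
      exact hqW (hGU ⟨q, inferInstance⟩ hJ)
    have hsq : s ∉ q := fun h => hsn (hqn h)
    have hF := (hs ⟨q, inferInstance⟩ hsq).2 hJq
    have h0' := h0 ⟨q, inferInstance⟩ hJq
    have h1' := h1 ⟨q, inferInstance⟩ hJq
    rw [Groth.Agent.H29.FibreDepthGe.idealDepth_fibre_eq (A := A) F q] at hF
    rw [Groth.Agent.H29.FibreDepthGe.idealDepth_fibre_eq (A := A) E0 q] at h0'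
    rw [Groth.Agent.H29.FibreDepthGe.idealDepth_fibre_eq (A := A) E1 q] at h1'
    refine hqW ((local_main q F E0 E1 G f u v hf hfu huv hv (fun Q hQ => ?_) h0' h1').1 hF)
    refine flat_loc_loc q G Q.asIdeal ?_
    by_contra hflat
    have hq'W : (⟨Q.asIdeal.comap (algebraMap B (Localization.AtPrime q)), inferInstance⟩ :
        PrimeSpectrum B) ∈ W := hflat
    have hIq' : PrimeSpectrum.vanishingIdeal W ≤
        Q.asIdeal.comap (algebraMap B (Localization.AtPrime q)) := fun x hx =>
      (PrimeSpectrum.mem_vanishingIdeal W x).1 hx _ hq'W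
    have hle := hqmin.2 ⟨inferInstance, hIq'⟩ (comap_le q Q.asIdeal)
    exact hQ (maximalIdeal_le_of_comap_eq q Q.asIdeal hle)

end thm

end Groth.Agent.H70.QGorNhd
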