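import Groth.Agent.H70.FlatAss.FourTermMain
import Groth.Agent.H29.FibreDepthGe
import Groth.Agent.H29.LocTrans
import Groth.Agent.H1.FlatLocusA

/-!
# Localizing a module over an algebra at a prime: the local homomorphism `A_p → B_q` (helper70)
-/

set_option autoImplicit false
set_option linter.style.haveILetI false
set_option linter.unusedSectionVars false
universe u

open Function (Injective Surjective Exact)

namespace Groth.Agent.H70.QGorNhd

open Groth.Agent.H29.LocTensor

attribute [local instance] locAlgebra locModule

section setup

variable {A B : Type u} [CommRing A] [CommRing B] [Algebra A B]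
  (q : Ideal B) [q.IsPrime]
  (X : Type u) [AddCommGroup X] [Module B X] [Module A X] [IsScalarTower A B X]

theorem algebraMap_loc_apply (x : Localization.AtPrime (q.comap (algebraMap A B))) :
    algebraMap (Localization.AtPrime (q.comap (algebraMap A B))) (Localization.AtPrime q) x =
      Localization.localRingHom (q.comap (algebraMap A B)) q (algebraMap A B) rfl x := rfl

theorem loc_smul_def (x : Localization.AtPrime (q.comap (algebraMap A B)))
    (y : LocalizedModule q.primeCompl X) :
    x • y = Localization.localRingHom (q.comap (algebraMap A B)) q (algebraMap A B) rfl x • y :=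
  rfl

instance tower1 : IsScalarTower A (Localization.AtPrime (q.comap (algebraMap A B)))
    (Localization.AtPrime q) := by
  refine IsScalarTower.of_algebraMap_eq fun a => ?_
  rw [algebraMap_loc_apply, Localization.localRingHom_to_map, ← IsScalarTower.algebraMap_apply]

instance tower2 : IsScalarTower (Localization.AtPrime (q.comap (algebraMap A B)))
    (Localization.AtPrime q) (LocalizedModule q.primeCompl X) := by
  refine ⟨fun x b y => ?_⟩
  rw [loc_smul_def q X x (b • y), Algebra.smul_def, algebraMap_loc_apply, mul_smul]

instance tower3 : IsScalarTower A (Localization.AtPrime (q.comap (algebraMap A B)))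
    (LocalizedModule q.primeCompl X) := by
  refine ⟨fun a x y => ?_⟩
  rw [loc_smul_def q X (a • x) y, loc_smul_def q X x y, Algebra.smul_def, map_mul, mul_smul,
    Localization.localRingHom_to_map, ← IsScalarTower.algebraMap_apply, algebraMap_smul]

instance isLocalHom_loc : IsLocalHom (algebraMap (Localization.AtPrime (q.comap (algebraMap A B)))
    (Localization.AtPrime q)) :=
  Localization.isLocalHom_localRingHom _ _ _ _

end setup

end Groth.Agent.H70.QGorNhd
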